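import Groth.Prelude.Def_EtBC2

/-!
# The first edge map when the higher derived functors of the inner functor vanish
-/

set_option autoImplicit false

universe v₁ v₂ v₃ u₁ u₂ u₃

open CategoryTheory CategoryTheory.Limits HomologicalComplex

namespace Edge94

variable {A : Type u₁} [Category.{v₁} A] [Abelian A] [HasInjectiveResolutions A]
  {B : Type u₂} [Category.{v₂} B] [Abelian B] [HasInjectiveResolutions B]
  {C : Type u₃} [Category.{v₃} C] [Abelian C]

/-- For a left exact functor whose higher derived functors vanish at `X`, applying it to an injective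
resolution of `X` gives a resolution of its value. -/
theorem quasiIso_mapAug (Φ : A ⥤ B) [Φ.Additive] [PreservesFiniteLimits Φ] (X : A)
    (h : ∀ q, 0 < q → IsZero ((Φ.rightDerived q).obj X)) (I : InjectiveResolution X) :
    QuasiIso (RDer.mapAug Φ I.ι) := by
  constructor
  rintro (_ | n)
  · rw [CochainComplex.quasiIsoAt₀_iff, ShortComplex.quasiIso_iff_of_zeros]
    · have hk := KernelFork.mapIsLimit _ (RDer.resIsLimitKernelFork I.cocomplex I.ι) Φ
      have e : (RDer.mapAug Φ I.ι).f 0 = Φ.map (I.ι.f 0) := by
        simp [RDer.mapAug]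
        exact Category.id_comp _
      refine ⟨ShortComplex.exact_of_f_is_kernel _ ?_, ?_⟩
      · refine IsLimit.ofIsoLimit hk (Fork.ext (Iso.refl _) ?_)
        simp only [Iso.refl_hom, KernelFork.map_ι, Fork.ι_ofι]
        exact (Category.id_comp _).trans e
      · change Mono ((RDer.mapAug Φ I.ι).f 0)
        rw [e]
        exact mono_of_isLimit_fork hk
    all_goals (simp <;> rfl)
  · rw [quasiIsoAt_iff_exactAt _ _ (CochainComplex.exactAt_succ_single_obj _ _),
      exactAt_iff_isZero_homology]
    exact (h (n + 1) n.succ_pos).of_iso (I.isoRightDerivedObj Φ (n + 1)).symm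

/-- The first edge map is an isomorphism when the higher derived functors of `Φ` vanish at `X`. -/
theorem isIso_edgeIn (Φ : A ⥤ B) [Φ.Additive] [Φ.PreservesInjectiveObjects] [PreservesFiniteLimits Φ]
    (Ψ : B ⥤ C) [Ψ.Additive] (q : ℕ) (X : A)
    (h : ∀ q, 0 < q → IsZero ((Φ.rightDerived q).obj X)) :
    IsIso (RDer.edgeIn Φ Ψ q X) := by
  haveI := quasiIso_mapAug Φ X h (injectiveResolution X)
  let R : InjectiveResolution (Φ.obj X) :=
    { cocomplex := (Φ.mapHomologicalComplex _).obj (injectiveResolution X).cocomplex
      ι := RDer.mapAug Φ (injectiveResolution X).ι }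
  let J := injectiveResolution (Φ.obj X)
  let d : J.cocomplex ⟶ R.cocomplex :=
    RDer.descToInjectives (𝟙 (Φ.obj X)) J.cocomplex J.ι R.cocomplex R.ι
  have hd : Homotopy d (InjectiveResolution.homotopyEquiv J R).hom := by
    refine InjectiveResolution.descHomotopy (𝟙 _) _ _ ?_ ?_
    · apply HomologicalComplex.from_single_hom_ext
      simp only [d, R, HomologicalComplex.comp_f, RDer.ι_descToInjectives_f_zero]
      simp
    · simp
  have he : IsIso ((HomologicalComplex.homologyFunctor C _ q).map ((Ψ.mapHomologicalComplex _).map d)) := by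
    have := ((Ψ.mapHomotopyEquiv (InjectiveResolution.homotopyEquiv J R)).toHomologyIso q).isIso_hom
    rw [show (HomologicalComplex.homologyFunctor C _ q).map ((Ψ.mapHomologicalComplex _).map d) =
      HomologicalComplex.homologyMap ((Ψ.mapHomologicalComplex _).map
        (InjectiveResolution.homotopyEquiv J R).hom) q from (Ψ.mapHomotopy hd).homologyMap_eq q]
    exact this
  unfold RDer.edgeIn
  haveI := he
  exact inferInstance

end Edge94
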